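import Cfsg.Agent.Lib.Components.CommAct
import Cfsg.Agent.Lib.Components.Primitive

/-!
# Group-theoretic helpers for Wielandt's bound on point stabilizers

* `rGen r M`: the subgroup generated by the elements of `M` of order prime to `r`.
* `le_normalizer_rGen`: a normal `r`-subgroup of `Y` normalizes `rGen r M` for `M` subnormal in `Y`.
* Relative forms of "subnormal `p`-subgroups lie in `O_p`" and of the normalizer condition.
-/

set_option autoImplicit false

namespace Cfsg.Agent.Lib.WBound

open Cfsg Subgroup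
open Cfsg.Agent.Lib.Components.Basic Cfsg.Agent.Lib.Components.Layer
open Cfsg.Agent.Lib.Components.GenFitting Cfsg.Agent.Lib.Components.Rel
open Cfsg.Agent.Lib.Subnormal.Basic Cfsg.Agent.Lib.Core.Basic
open Cfsg.Agent.Lib.CharP.Basic Cfsg.Agent.Lib.Coprime.Action
open scoped commutatorElement Pointwise

variable {G : Type*} [Group G]

/-- The subgroup generated by the elements of `M` of order prime to `r`. -/
def rGen (r : ℕ) (M : Subgroup G) : Subgroup G := closure {x | x ∈ M ∧ (orderOf x).Coprime r}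

theorem rGen_le (r : ℕ) (M : Subgroup G) : rGen r M ≤ M := closure_le _ |>.2 fun _ hx => hx.1

theorem mem_rGen {r : ℕ} {M : Subgroup G} {x : G} (hx : x ∈ M) (hc : (orderOf x).Coprime r) :
    x ∈ rGen r M := subset_closure ⟨hx, hc⟩

theorem rGen_mono {r : ℕ} {M M' : Subgroup G} (h : M ≤ M') : rGen r M ≤ rGen r M' :=
  closure_mono fun _ hx => ⟨h hx.1, hx.2⟩

theorem conj_rGen_le (g : G) (r : ℕ) (M : Subgroup G) :
    MulAut.conj g • rGen r M ≤ rGen r (MulAut.conj g • M) := by
  intro x hx
  rw [mem_conj] at hx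
  have key : ∀ y ∈ rGen r M, g * y * g⁻¹ ∈ rGen r (MulAut.conj g • M) := by
    intro y hy
    induction hy using closure_induction with
    | mem y hy =>
      refine mem_rGen (conj_mem_conj hy.1) ?_
      have : orderOf (g * y * g⁻¹) = orderOf y := by
        have := orderOf_injective (MulAut.conj g).toMonoidHom (MulAut.conj g).injective y
        simpa using this
      rw [this]; exact hy.2
    | one => simp
    | mul a b _ _ ha hb =>
      have e : g * (a * b) * g⁻¹ = (g * a * g⁻¹) * (g * b * g⁻¹) := by group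
      rw [e]; exact mul_mem ha hb
    | inv a _ ha =>
      have e : g * a⁻¹ * g⁻¹ = (g * a * g⁻¹)⁻¹ := by group
      rw [e]; exact inv_mem ha
  have := key _ hx
  simpa [mul_assoc] using this

theorem conj_rGen (g : G) (r : ℕ) (M : Subgroup G) :
    MulAut.conj g • rGen r M = rGen r (MulAut.conj g • M) := by
  apply le_antisymm (conj_rGen_le g r M)
  have h := conj_rGen_le g⁻¹ r (MulAut.conj g • M)
  rw [conj_inv_conj] at h
  have h2 := conj_mono (g := g) h
  rwa [conj_conj_inv] at h2

theorem rGen_ne_bot [Finite G] {r : ℕ} [Fact r.Prime] {M : Subgroup G} (h : ¬ IsPGroup r M) :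
    rGen r M ≠ ⊥ := by
  intro hb
  apply h
  apply isPGroup_of_pprime_trivial
  intro a ha hc
  have := mem_rGen ha hc
  rwa [hb, mem_bot] at this

theorem pow_prod_mem {M : Subgroup G} {m t : G} (hm : m ∈ M) (ht : t ∈ normalizer (M : Set G))
    (n : ℕ) : ∃ m' ∈ M, (m * t) ^ n = m' * t ^ n := by
  induction n with
  | zero => exact ⟨1, M.one_mem, by simp⟩
  | succ n ih =>
    obtain ⟨m', hm', e⟩ := ih
    have h1 : t ^ n * m * (t ^ n)⁻¹ ∈ M :=
      (mem_normalizer_iff.mp (pow_mem ht n) m).mp hm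
    refine ⟨m' * (t ^ n * m * (t ^ n)⁻¹), mul_mem hm' h1, ?_⟩
    rw [pow_succ, e, pow_succ]
    group

theorem mem_of_pow_mem_of_coprime {M : Subgroup G} {x : G} {n : ℕ} (h : x ^ n ∈ M)
    (hc : n.Coprime (orderOf x)) : x ∈ M := by
  obtain ⟨m, hm⟩ := exists_pow_eq_self_of_coprime hc
  rw [← hm]
  exact pow_mem h m

/-- Elements of order prime to `r` of `W` lie in the subnormal subgroup `M` if `W` is covered by `M`
and an `r`-subgroup normalized by `W`. -/
theorem mem_of_SN_of_coprime {r : ℕ} [Finite G] [Fact r.Prime] {M W T : Subgroup G} (hSN : SN M W)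
    (hT : IsPGroup r T) (hWT : W ≤ normalizer (T : Set G)) (hW : W ≤ M ⊔ T) {x : G} (hx : x ∈ W)
    (hc : (orderOf x).Coprime r) : x ∈ M := by
  induction hSN using Relation.ReflTransGen.head_induction_on with
  | refl => exact hx
  | @head a c h1 h2 ih =>
    have hc1 : x ∈ c := ih (hW.trans (sup_le_sup_right h1.1 _))
    have hxsup : x ∈ a ⊔ T := hW hx
    have haN : a ≤ normalizer (T : Set G) := h1.1.trans ((SN.le h2).trans hWT)
    rw [sup_comm] at hxsup
    obtain ⟨t, ht, m, hm, e⟩ := exists_mul_of_mem_sup haN hxsup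
    -- rewrite `x = m' * t'` with `t' ∈ T ∩ c`
    have hx2 : x = m * (m⁻¹ * t * m) := by rw [e]; group
    have ht' : m⁻¹ * t * m ∈ T := inv_conj_mem_of_le_normalizer haN hm ht
    have htc : m⁻¹ * t * m ∈ c := by
      have : m⁻¹ * t * m = m⁻¹ * x := by rw [e]; group
      rw [this]
      exact mul_mem (inv_mem (h1.1 hm)) hc1
    obtain ⟨k, hk⟩ := (hT ⟨_, ht'⟩)
    have hk' : (m⁻¹ * t * m) ^ r ^ k = 1 := by simpa using congrArg Subtype.val hk
    obtain ⟨m', hm', e'⟩ := pow_prod_mem hm (h1.2 htc) (r ^ k)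
    rw [hk', mul_one, ← hx2] at e'
    apply mem_of_pow_mem_of_coprime (n := r ^ k) (by rw [e']; exact hm')
    exact (hc.pow_right k).symm

/-- **Lemma N.** A normal `r`-subgroup `T` of `Y` normalizes `rGen r M` for each `M` subnormal in `Y`. -/
theorem le_normalizer_rGen {r : ℕ} [Finite G] [Fact r.Prime] {M Y T : Subgroup G} (hM : SN M Y)
    (hTY : T ≤ Y) (hYT : Y ≤ normalizer (T : Set G)) (hT : IsPGroup r T) :
    T ≤ normalizer (rGen r M : Set G) := by
  intro t ht
  have hWY : M ⊔ T ≤ Y := sup_le hM.le hTY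
  have hSN : SN M (M ⊔ T) := hM.restrict le_sup_left hWY
  have hle : MulAut.conj t • rGen r M ≤ rGen r M := by
    rw [conj_rGen]
    apply (closure_le _).2
    rintro y ⟨hy, hc⟩
    refine mem_rGen ?_ hc
    apply mem_of_SN_of_coprime hSN hT (hWY.trans hYT) le_rfl ?_ hc
    rw [mem_conj] at hy
    have e : y = t * (t⁻¹ * y * t) * t⁻¹ := by group
    rw [e]
    exact mul_mem (mul_mem (mem_sup_right ht) (mem_sup_left hy)) (inv_mem (mem_sup_right ht))
  have heq : MulAut.conj t • rGen r M = rGen r M :=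
    Subgroup.eq_of_le_of_card_ge hle (card_conj t _).ge
  exact mem_normalizer_of_conj_eq heq

/-- Subnormal `p`-subgroups lie in `O_p`, relative form. -/
theorem le_OpIn_of_SN [Finite G] {p : ℕ} {P T : Subgroup G} (hP : SN P T) (hp : IsPGroup p P) :
    P ≤ OpIn p T := by
  have h1 : (P.subgroupOf T).IsSubnormal := isSubnormal_subgroupOf_of_SN hP
  have h2 : IsPGroup p (P.subgroupOf T) := hp.comap_of_injective T.subtype T.subtype_injective
  have h3 := le_pCore_of_isSubnormal h1 h2
  have h4 := map_mono (f := T.subtype) h3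
  rwa [map_subgroupOf_eq_of_le hP.le] at h4

/-- Subnormal nilpotent subgroups lie in `F`, relative form. -/
theorem le_FitIn_of_SN [Finite G] {P T : Subgroup G} (hP : SN P T) (hp : Group.IsNilpotent P) :
    P ≤ FitIn T := by
  have h1 : (P.subgroupOf T).IsSubnormal := isSubnormal_subgroupOf_of_SN hP
  have h2 : Group.IsNilpotent (P.subgroupOf T) :=
    Group.nilpotent_of_mulEquiv (subgroupOfEquivOfLe hP.le).symm
  have h3 := le_fittingSubgroup_of_isSubnormal h1 h2
  have h4 := map_mono (f := T.subtype) h3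
  rwa [map_subgroupOf_eq_of_le hP.le] at h4

/-- The normalizer condition, relative form: a proper subgroup `U` of the `p`-group `P` is
properly contained in its normalizer in `P`. -/
theorem exists_mem_normalizer [Finite G] {p : ℕ} [Fact p.Prime] {U P : Subgroup G} (hP : IsPGroup p P)
    (hlt : U < P) : ∃ z ∈ P, z ∉ U ∧ z ∈ normalizer (U : Set G) := by
  have hnil : Group.IsNilpotent P := isPGroup_isNilpotent hP
  have hU : U.subgroupOf P < normalizer ((U.subgroupOf P : Subgroup P) : Set P) := by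
    apply Group.normalizerCondition_of_isNilpotent
    rw [lt_top_iff_ne_top]
    intro h
    rw [subgroupOf_eq_top] at h
    exact absurd h (not_le_of_gt hlt)
  obtain ⟨z, hz, hzU⟩ := SetLike.exists_of_lt hU
  refine ⟨z, z.2, fun h => hzU (by rw [mem_subgroupOf]; exact h), ?_⟩
  rw [mem_normalizer_iff]
  intro y
  have hz' := mem_normalizer_iff.mp hz
  constructor
  · intro hy
    have hyP := hlt.le hy
    have := (hz' ⟨y, hyP⟩).mp (by rw [mem_subgroupOf]; exact hy)
    rw [mem_subgroupOf] at this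
    simpa using this
  · intro hy
    have hzP : (z : G) * y * (z : G)⁻¹ ∈ P := hlt.le hy
    have hyP : y ∈ P := by
      have e : y = (z : G)⁻¹ * ((z : G) * y * (z : G)⁻¹) * (z : G) := by group
      rw [e]
      exact mul_mem (mul_mem (inv_mem z.2) hzP) z.2
    have := (hz' ⟨y, hyP⟩).mpr (by rw [mem_subgroupOf]; simpa using hy)
    rw [mem_subgroupOf] at this
    simpa using this

theorem isPGroup_conj {p : ℕ} {P : Subgroup G} (hP : IsPGroup p P) (g : G) :
    IsPGroup p (MulAut.conj g • P : Subgroup G) := by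
  rintro ⟨y, hy⟩
  rw [mem_conj] at hy
  obtain ⟨k, hk⟩ := hP ⟨_, hy⟩
  refine ⟨k, Subtype.ext ?_⟩
  have h1 : (g⁻¹ * y * g) ^ p ^ k = 1 := by simpa using congrArg Subtype.val hk
  have h2 : (g⁻¹ * y * g) ^ p ^ k = g⁻¹ * y ^ p ^ k * g := by
    have := conj_pow (a := g⁻¹) (b := y) (i := p ^ k)
    simpa using this
  rw [h2] at h1
  have h3 : y ^ p ^ k = g * (g⁻¹ * y ^ p ^ k * g) * g⁻¹ := by group
  simp only [SubgroupClass.coe_pow, OneMemClass.coe_one]
  rw [h3, h1]
  group

theorem OpIn_conj_le [Finite G] (g : G) (p : ℕ) (T : Subgroup G) :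
    MulAut.conj g • OpIn p T ≤ OpIn p (MulAut.conj g • T) := by
  apply le_OpIn
  · exact conj_mono (OpIn_le p T)
  · exact isPGroup_conj (OpIn_isPGroup p T) g
  · intro h hh y hy
    rw [mem_conj] at hh hy ⊢
    have := OpIn_conj hh hy
    have e : g⁻¹ * (h * y * h⁻¹) * g =
      g⁻¹ * h * g * (g⁻¹ * y * g) * (g⁻¹ * h * g)⁻¹ := by group
    rw [e]
    exact this

theorem OpIn_conj_eq [Finite G] (g : G) (p : ℕ) (T : Subgroup G) :
    MulAut.conj g • OpIn p T = OpIn p (MulAut.conj g • T) := by
  apply le_antisymm (OpIn_conj_le g p T)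
  have h := OpIn_conj_le g⁻¹ p (MulAut.conj g • T)
  rw [conj_inv_conj] at h
  have h2 := conj_mono (g := g) h
  rwa [conj_conj_inv] at h2

/-- Components of `T` are carried to components of the conjugate. -/
theorem LayerIn_conj_le (g : G) (T : Subgroup G) :
    MulAut.conj g • LayerIn T ≤ LayerIn (MulAut.conj g • T) := by
  have : LayerIn T ≤ MulAut.conj g⁻¹ • LayerIn (MulAut.conj g • T) := by
    rw [LayerIn_eq T]
    apply sSup_le
    intro K hK
    have h1 := le_LayerIn (hK.conj g)
    have h2 := conj_mono (g := g⁻¹) h1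
    rwa [conj_inv_conj] at h2
  have h2 := conj_mono (g := g) this
  rwa [conj_conj_inv] at h2

theorem LayerIn_conj_eq (g : G) (T : Subgroup G) :
    MulAut.conj g • LayerIn T = LayerIn (MulAut.conj g • T) := by
  apply le_antisymm (LayerIn_conj_le g T)
  have h := LayerIn_conj_le g⁻¹ (MulAut.conj g • T)
  rw [conj_inv_conj] at h
  have h2 := conj_mono (g := g) h
  rwa [conj_conj_inv] at h2

end Cfsg.Agent.Lib.WBound
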